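import Groth.Agent.Lib.InvRing16.Flat
import Groth.Agent.Lib.ModFlat16.Stalks
import Mathlib.Algebra.Category.ModuleCat.Sheaf.ChangeOfRings

/-! The equational condition for a module flat over the base of a morphism of ringed sites. -/

set_option autoImplicit false
set_option linter.style.haveILetI false
set_option linter.unusedSectionVars false
set_option backward.isDefEq.respectTransparency false
set_option backward.isDefEq.respectTransparency.types false

universe u

open CategoryTheory CategoryTheory.Limits Opposite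

noncomputable section

namespace Groth.Agent.PullFlatMod16

open Groth.Agent.ModFlat16 Groth.Agent.InvRing16

variable {C D : Type u} [SmallCategory C] [SmallCategory D] {J : GrothendieckTopology C}
  {K : GrothendieckTopology D} {O_C : Sheaf J CommRingCat.{u}} {O_D : Sheaf K CommRingCat.{u}}
  (f : ModSite.RMor O_C O_D) (F : ModSite.Mod O_C)

/-- The module over the pulled back ring. -/
abbrev resMod : ModSite.Mod f.invRing :=
  (SheafOfModules.restrictScalars ((sheafCompose J (forget₂ CommRingCat.{u} RingCat.{u})).map f.invSharp)).obj F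

theorem smul_resMod {U : C} (r : f.invRing.obj.obj (op U)) (m : ModSite.sect (resMod f F) U) :
    (r • m : ModSite.sect (resMod f F) U) =
      ((show O_C.obj.obj (op U) from f.invSharp.hom.app (op U) r) • (show ModSite.sect F U from m) :
        ModSite.sect F U) := rfl

/-- Relations in the module with coefficients downstairs are locally trivial. -/
def EqFlatMod : Prop :=
  ∀ (W : C) (V₀ : D) (u₀ : W ⟶ f.fn.obj V₀) (l : ℕ) (n : Fin l → ModSite.sect F W)
    (a : Fin l → O_D.obj.obj (op V₀)), ∑ i, rho f u₀ (a i) • n i = 0 →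
    ∃ T ∈ J W, ∀ ⦃W' : C⦄ (k : W' ⟶ W), T k → ∃ (V' : D) (b : V' ⟶ V₀) (u' : W' ⟶ f.fn.obj V') (r : ℕ)
      (c : Fin l → Fin r → O_D.obj.obj (op V')) (z : Fin r → ModSite.sect F W'),
      u' ≫ f.fn.map b = k ≫ u₀ ∧ (∀ i, smap F k (n i) = ∑ q, rho f u' (c i q) • z q) ∧
        ∀ q, ∑ i, c i q * rmap O_D b (a i) = 0

variable {f F}

/-- Finitely many relations are simultaneously locally trivial. -/
theorem EqFlatMod.many (hf : EqFlatMod f F) (W : C) (V₀ : D) (u₀ : W ⟶ f.fn.obj V₀) (l : ℕ)
    (n : Fin l → ModSite.sect F W) :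
    ∀ (m : ℕ) (a : Fin m → Fin l → O_D.obj.obj (op V₀)), (∀ s, ∑ i, rho f u₀ (a s i) • n i = 0) →
    ∃ T ∈ J W, ∀ ⦃W' : C⦄ (k : W' ⟶ W), T k → ∃ (V' : D) (b : V' ⟶ V₀) (u' : W' ⟶ f.fn.obj V') (r : ℕ)
      (c : Fin l → Fin r → O_D.obj.obj (op V')) (z : Fin r → ModSite.sect F W'),
      u' ≫ f.fn.map b = k ≫ u₀ ∧ (∀ i, smap F k (n i) = ∑ q, rho f u' (c i q) • z q) ∧
        ∀ s q, ∑ i, c i q * rmap O_D b (a s i) = 0 := by
  classical
  intro m
  induction m with
  | zero =>
    intro a _
    refine ⟨⊤, J.top_mem W, fun W' k _ => ⟨V₀, 𝟙 V₀, k ≫ u₀, l, fun i q => if i = q then 1 else 0,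
      fun q => smap F k (n q), by simp, fun i => ?_, fun s => s.elim0⟩⟩
    rw [Finset.sum_eq_single i]
    · show smap F k (n i) = rho f (k ≫ u₀) (if i = i then 1 else 0) • smap F k (n i)
      rw [if_pos rfl, map_one]
      exact (one_smul (O_C.obj.obj (op W')) (smap F k (n i))).symm
    · intro q _ hq
      show rho f (k ≫ u₀) (if i = q then 1 else 0) • smap F k (n q) = 0
      rw [if_neg (Ne.symm hq), map_zero]
      exact zero_smul (O_C.obj.obj (op W')) (smap F k (n q))
    · simp
  | succ m ih =>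
    intro a ha
    obtain ⟨T, hT, hT'⟩ := ih (fun s => a s.castSucc) fun s => ha _
    choose V' b u' r c z hu hnc hca using hT'
    have hrel : ∀ ⦃W' : C⦄ (k : W' ⟶ W) (hk : T k),
        ∑ q, rho f (u' k hk) (∑ i, c k hk i q * rmap O_D (b k hk) (a (Fin.last m) i)) • z k hk q = 0 := by
      intro W' k hk
      have h0 := congrArg (smap F k) (ha (Fin.last m))
      rw [map_zero, smap_comb] at h0
      refine Eq.trans ?_ h0
      simp only [map_sum, map_mul, rho_rmap, hu k hk, rmap_rho, hnc k hk, Finset.sum_smul, Finset.smul_sum,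
        smul_smul]
      rw [Finset.sum_comm]
      exact Finset.sum_congr rfl fun i _ => Finset.sum_congr rfl fun q _ => by rw [mul_comm]
    choose T' hT₂ hT₃ using fun W' (k : W' ⟶ W) (hk : T k) => hf W' (V' k hk) (u' k hk) (r k hk) (z k hk) _ (hrel k hk)
    refine ⟨Sieve.bind T.arrows fun W' k hk => T' W' k hk, J.bind_covering hT fun W' k hk => hT₂ W' k hk, ?_⟩
    rintro W₂ _ ⟨W', h, k, hk, hh, rfl⟩
    obtain ⟨V'', b', u'', r', c', z', hu', hz, hc'⟩ := hT₃ W' k hk h hh
    refine ⟨V'', b' ≫ b k hk, u'', r', fun i p => ∑ q, rmap O_D b' (c k hk i q) * c' q p, z', ?_, fun i => ?_, fun s p => ?_⟩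
    · rw [Functor.map_comp, reassoc_of% hu', hu k hk, Category.assoc]
    · rw [smap_comp, hnc k hk i, smap_comb]
      simp only [map_sum, map_mul, rmap_rho, hz, ← hu', ← rho_rmap, Finset.smul_sum, Finset.sum_smul, smul_smul]
      rw [Finset.sum_comm]
    · have key : ∑ i, (∑ q, rmap O_D b' (c k hk i q) * c' q p) * rmap O_D (b' ≫ b k hk) (a s i) =
          ∑ q, c' q p * rmap O_D b' (∑ i, c k hk i q * rmap O_D (b k hk) (a s i)) := by
        simp only [Finset.sum_mul, map_sum, Finset.mul_sum, map_mul, rmap_comp]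
        rw [Finset.sum_comm]
        exact Finset.sum_congr rfl fun q _ => Finset.sum_congr rfl fun i _ => by ring
      rw [key]
      induction s using Fin.lastCases with
      | last => exact hc' p
      | cast s => exact Finset.sum_eq_zero fun q _ => by rw [hca k hk s q, map_zero, mul_zero]

/-- Locally trivial relations over the pulled back ring give the equational condition. -/
theorem eqFlatMod_of_relTriv (hf : RelTriv (resMod f F)) : EqFlatMod f F := by
  intro W V₀ u₀ l n a hrel
  classical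
  let a' : Fin l → f.invRing.obj.obj (op W) := fun i => ub u₀ (a i)
  have h0 : ∑ i, a' i • (show ModSite.sect (resMod f F) W from n i) = 0 := by
    refine Eq.trans (Finset.sum_congr rfl fun i _ => smul_resMod f F (a' i) _) ?_
    refine Eq.trans (Finset.sum_congr rfl fun i _ => ?_) hrel
    rw [invSharp_ub]
  obtain ⟨S, hS, hS'⟩ := hf W l a' _ h0
  refine bind_cover S hS fun W₁ k₁ hk₁ => ?_
  obtain ⟨r, t, b, hnt, hb⟩ := hS' k₁ hk₁
  obtain ⟨S₂, hS₂, hS₂'⟩ := locally_ub (fun p : Fin l × Fin r => b p.1 p.2)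
  refine bind_cover S₂ hS₂ fun W₂ k₂ hk₂ => ?_
  obtain ⟨V, u, c, hc⟩ := hS₂' k₂ hk₂
  obtain ⟨S₃, hS₃, hS₃'⟩ := locally_span f u (k₂ ≫ k₁ ≫ u₀)
  refine bind_cover S₃ hS₃ fun W₃ k₃ hk₃ => ?_
  obtain ⟨V₃, g₁, g₂, u₃, e₁, e₂⟩ := hS₃' k₃ hk₃
  have hub : ∀ i q, rmap f.invRing (k₃ ≫ k₂) (b i q) = ub u₃ (rmap O_D g₁ (c (i, q))) := fun i q => by
    rw [ub_rmap, e₁, ← rmap_ub, rmap_comp]
    exact congrArg _ (hc (i, q))
  have hsum : ∀ q, ub u₃ (∑ i, rmap O_D g₁ (c (i, q)) * rmap O_D g₂ (a i)) = 0 := fun q => by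
    refine Eq.trans ?_ ((congrArg (rmap f.invRing (k₃ ≫ k₂)) (hb q)).trans (map_zero _))
    rw [map_sum, map_sum]
    refine Finset.sum_congr rfl fun i _ => ?_
    rw [map_mul, map_mul, ← hub, ub_rmap, e₂]
    refine congrArg (_ * ·) ?_
    show _ = rmap f.invRing (k₃ ≫ k₂) (rmap f.invRing k₁ (a' i))
    rw [← rmap_comp, rmap_ub, Category.assoc, Category.assoc]
  obtain ⟨S₄, hS₄, hS₄'⟩ := locally_zero_family u₃ _ hsum
  refine ⟨S₄, hS₄, fun W₄ k₄ hk₄ => ?_⟩
  obtain ⟨V₁, g, u₁, eg, hg⟩ := hS₄' k₄ hk₄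
  refine ⟨V₁, g ≫ g₂, u₁, r, fun i q => rmap O_D g (rmap O_D g₁ (c (i, q))),
    fun q => smap F ((k₄ ≫ k₃) ≫ k₂) (t q), ?_, fun i => ?_, fun q => ?_⟩
  · rw [Functor.map_comp, reassoc_of% eg, e₂]
    simp only [Category.assoc]
  · rw [smap_comp k₁ ((k₄ ≫ k₃) ≫ k₂) (n i)]
    have hn : smap F k₁ (n i) = ∑ q, (show O_C.obj.obj (op W₁) from f.invSharp.hom.app (op W₁) (b i q)) •
        (show ModSite.sect F W₁ from t q) :=
      (hnt i).trans (Finset.sum_congr rfl fun q _ => smul_resMod f F _ _)
    rw [hn, smap_comb]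
    refine Finset.sum_congr rfl fun q _ => ?_
    refine congrArg (· • _) ?_
    refine (NatTrans.naturality_apply f.invSharp.hom ((k₄ ≫ k₃) ≫ k₂).op (b i q)).symm.trans ?_
    show f.invSharp.hom.app (op W₄) (rmap f.invRing ((k₄ ≫ k₃) ≫ k₂) (b i q)) = _
    rw [Category.assoc, rmap_comp (k₃ ≫ k₂) k₄, hub, rmap_ub, invSharp_ub, rho_rmap f g u₁, eg]
  · refine Eq.trans ?_ (hg q)
    rw [map_sum]
    refine Finset.sum_congr rfl fun i _ => ?_
    rw [map_mul, rmap_comp]

/-- Flatness of a stalk over the pulled back ring, in the two guises. -/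
theorem flat_stalk_resMod (p : GrothendieckTopology.Point.{u} J)
    (h : @Module.Flat (ModSite.stalkRing p f.invRing) (ModSite.stalkAb p F) _ _
      (Module.compHom (ModSite.stalkAb p F) ((p.sheafFiber (A := CommRingCat.{u})).map f.invSharp).hom)) :
    Module.Flat (ModSite.stalkRing p f.invRing) (ModSite.stalkMod p (resMod f F)) := by
  letI : Module (ModSite.stalkRing p f.invRing) (ModSite.stalkAb p F) :=
    Module.compHom (ModSite.stalkAb p F) ((p.sheafFiber (A := CommRingCat.{u})).map f.invSharp).hom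
  haveI : Module.Flat (ModSite.stalkRing p f.invRing) (ModSite.stalkAb p F) := h
  let e : ModSite.stalkAb p (resMod f F) ≃ₗ[ModSite.stalkRing p f.invRing] ModSite.stalkAb p F :=
    { toFun := fun x => x, invFun := fun x => x, left_inv := fun _ => rfl, right_inv := fun _ => rfl
      map_add' := fun _ _ => rfl
      map_smul' := fun r m => by
        obtain ⟨X, x, r0, rfl⟩ := p.toPresheafFiber_jointly_surjective (P := f.invRing.obj) r
        obtain ⟨Y, y, m0, rfl⟩ := p.toPresheafFiber_jointly_surjective (P := (ModSite.toAb (resMod f F)).obj) m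
        let W := IsCofiltered.min (Functor.elementsMk p.fiber X x) (Functor.elementsMk p.fiber Y y)
        let gX := IsCofiltered.minToLeft (Functor.elementsMk p.fiber X x) (Functor.elementsMk p.fiber Y y)
        let gY := IsCofiltered.minToRight (Functor.elementsMk p.fiber X x) (Functor.elementsMk p.fiber Y y)
        have hX : ModSite.germRing p (O := f.invRing) X x r0 =
            ModSite.germRing p (O := f.invRing) W.1 W.2 (rmap f.invRing gX.1 r0) := by
          rw [germRing_rmap, gX.2]
        have hY : ModSite.germ p (resMod f F) Y y m0 =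
            ModSite.germ p (resMod f F) W.1 W.2 (smap (resMod f F) gY.1 m0) := by
          rw [germ_smap, gY.2]
        show (ModSite.germRing p (O := f.invRing) X x r0 • ModSite.germ p (resMod f F) Y y m0 :
              ModSite.stalkAb p (resMod f F)) =
            ((p.sheafFiber (A := CommRingCat.{u})).map f.invSharp).hom (ModSite.germRing p (O := f.invRing) X x r0) •
              (show ModSite.stalkAb p F from ModSite.germ p (resMod f F) Y y m0)
        rw [hX, hY]
        refine (ModSite.germ_smul p (resMod f F) W.1 W.2 _ _).symm.trans ?_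
        refine Eq.trans ?_ (congrArg (· • (show ModSite.stalkAb p F from
          ModSite.germ p (resMod f F) W.1 W.2 (smap (resMod f F) gY.1 m0)))
          (p.toPresheafFiber_naturality_apply f.invSharp.hom W.1 W.2 (rmap f.invRing gX.1 r0)).symm)
        exact ModSite.germ_smul p F W.1 W.2 _ _ }
  exact Module.Flat.of_linearEquiv e

end Groth.Agent.PullFlatMod16
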