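import Groth.Agent.Lib.PullFlatMod16.EqFlatMod
import Groth.Agent.Lib.ModFlat16.PullMono
import Groth.Agent.Lib.ModFlat16.Proj
import Groth.Agent.Lib.ModFlat16.Elements

/-! Inverse image followed by tensoring with a module flat over the base keeps monomorphisms. -/

set_option autoImplicit false
set_option linter.style.haveILetI false
set_option linter.unusedSectionVars false
set_option backward.isDefEq.respectTransparency false
set_option backward.isDefEq.respectTransparency.types false

universe u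

open CategoryTheory CategoryTheory.Limits Opposite MonoidalCategory TensorProduct

noncomputable section

namespace Groth.Agent.PullFlatMod16

open Groth.Agent.ModFlat16 Groth.Agent.KFlat.Site

variable {C D : Type u} [SmallCategory C] [SmallCategory D] {J : GrothendieckTopology C}
  {K : GrothendieckTopology D} {O_C : Sheaf J CommRingCat.{u}} {O_D : Sheaf K CommRingCat.{u}}
  {f : ModSite.RMor O_C O_D} {A B : ModSite.Mod O_D} {F : ModSite.Mod O_C}

/-- A map of presheaves of modules which is locally injective becomes a monomorphism of sheaves. -/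
theorem mono_shPre_map {P Q : ModSite.preMod O_C} (α : P ⟶ Q)
    (h : ∀ (W : C) (z : P.obj (op W)), α.app (op W) z = 0 →
      ∃ S ∈ J W, ∀ ⦃W' : C⦄ (k : W' ⟶ W), S k → P.map k.op z = 0) :
    Mono ((ModSite.shPre O_C).map α) := by
  let SP := (ModSite.shPre O_C).obj P
  suffices hinj : ∀ (U : C) (σ : ModSite.sect SP U), ((ModSite.shPre O_C).map α).val.app (op U) σ = 0 → σ = 0 by
    have hm : Mono ((ModSite.toPre O_C).map ((ModSite.shPre O_C).map α)) :=
      PresheafOfModules.mono_of_injective fun {A} =>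
        (injective_iff_map_eq_zero (((ModSite.shPre O_C).map α).val.app A).hom).2 fun x hx => hinj A.unop x hx
    haveI := (toPreFF O_C).faithful
    exact (ModSite.toPre O_C).mono_of_mono_map hm
  intro U σ hσ
  have sep : ∀ {U : C} (σ : ModSite.sect SP U) (T : Sieve U), T ∈ J U →
      (∀ ⦃W : C⦄ (k : W ⟶ U), T k → smap SP k σ = 0) → σ = 0 := fun {U} σ T hT h =>
    (Presheaf.IsSheaf.isSeparated (ModSite.toAb SP).property) U T hT _ _
      fun W k hk => (h k hk).trans (map_zero (smap SP k)).symm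
  haveI : Presheaf.IsLocallySurjective J ((PresheafOfModules.toPresheaf _).map ((adj O_C).unit.app P)) :=
    ((J.W_iff_isLocallyBijective _).1 (W_unit O_C P)).2
  haveI : Presheaf.IsLocallyInjective J ((PresheafOfModules.toPresheaf _).map ((adj O_C).unit.app Q)) :=
    ((J.W_iff_isLocallyBijective _).1 (W_unit O_C Q)).1
  refine sep σ (Presheaf.imageSieve ((PresheafOfModules.toPresheaf _).map ((adj O_C).unit.app P)) σ)
    (Presheaf.imageSieve_mem J ((PresheafOfModules.toPresheaf _).map ((adj O_C).unit.app P)) σ) fun W k hk => ?_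
  obtain ⟨z, hz⟩ := hk
  have h0 : ((adj O_C).unit.app Q).app (op W) (α.app (op W) z) = 0 := by
    refine (congrArg (fun q : P ⟶ (ModSite.toPre O_C).obj ((ModSite.shPre O_C).obj Q) => q.app (op W) z)
      ((adj O_C).unit.naturality α)).trans ?_
    show ((ModSite.shPre O_C).map α).val.app (op W) (((adj O_C).unit.app P).app (op W) z) = 0
    rw [show ((adj O_C).unit.app P).app (op W) z = smap SP k σ from hz]
    exact (app_smap ((ModSite.shPre O_C).map α) k σ).trans ((congrArg _ hσ).trans (map_zero _))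
  refine sep _ (Presheaf.equalizerSieve (F := (PresheafOfModules.toPresheaf _).obj Q) (X := op W) (α.app (op W) z) 0)
    (Presheaf.equalizerSieve_mem J ((PresheafOfModules.toPresheaf _).map ((adj O_C).unit.app Q)) _ 0
      (h0.trans (map_zero _).symm)) fun W₁ k₁ hk₁ => ?_
  obtain ⟨S, hS, hS'⟩ := h W₁ (P.map k₁.op z) (by
    rw [PresheafOfModules.naturality_apply]
    exact hk₁.trans (map_zero _))
  refine sep _ S hS fun W₂ k₂ hk₂ => ?_
  rw [show smap SP k σ = ((adj O_C).unit.app P).app (op W) z from hz.symm]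
  refine (congrArg (smap SP k₂) (PresheafOfModules.naturality_apply ((adj O_C).unit.app P) k₁.op z).symm).trans ?_
  refine (PresheafOfModules.naturality_apply ((adj O_C).unit.app P) k₂.op _).symm.trans ?_
  exact (congrArg (((adj O_C).unit.app P).app (op W₂)) (hS' k₂ hk₂)).trans (map_zero _)

variable (f) in
/-- The map of free presheaves on symbols. -/
def pmapP (φ : A ⟶ B) : preP f A ⟶ preP f B :=
  PresheafOfModules.freeObjDesc
    { app := fun U => ↾fun s => gen s.2.1 (φ.val.app (op s.1) s.2.2)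
      naturality := fun U W k => by
        ext s
        obtain ⟨V, u, m⟩ := s
        exact (map_gen k.unop u (φ.val.app (op V) m)).symm }

theorem pmapP_gen (φ : A ⟶ B) {U : C} {V : D} (u : U ⟶ f.fn.obj V) (m : ModSite.sect A V) :
    (pmapP f φ).app (op U) (gen u m) = gen u (φ.val.app (op V) m) := ModuleCat.freeDesc_apply _ _

theorem pmapP_rel (φ : A ⟶ B) : relMap f A ≫ pmapP f φ ≫ preQπ f B = 0 := by
  refine PresheafOfModules.free_hom_ext (R := ringPre O_C) ?_
  ext U r
  show (preQπ f B).app U ((pmapP f φ).app U ((relMap f A).app U (ModuleCat.freeMk r))) = 0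
  rw [show (relMap f A).app U (ModuleCat.freeMk r) = relVal r from ModuleCat.freeDesc_apply _ _]
  cases r with
  | add V u m m' =>
    refine Eq.trans (congrArg _ ?_) (preQπ_relVal f B (Rel.add V u (φ.val.app (op V) m) (φ.val.app (op V) m')))
    simp only [relVal, map_sub]
    erw [pmapP_gen, pmapP_gen, pmapP_gen, map_add]
  | smul V u a m =>
    refine Eq.trans (congrArg _ ?_) (preQπ_relVal f B (Rel.smul V u a (φ.val.app (op V) m)))
    simp only [relVal, map_sub, map_smul]
    erw [pmapP_gen, pmapP_gen, map_smul]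
  | res V V' g u m =>
    refine Eq.trans (congrArg _ ?_) (preQπ_relVal f B (Rel.res V V' g u (φ.val.app (op V) m)))
    simp only [relVal, map_sub]
    erw [pmapP_gen, pmapP_gen]
    rw [← app_smap]

variable (f) in
/-- The map of presented presheaves. -/
def qmap (φ : A ⟶ B) : preQ f A ⟶ preQ f B :=
  cokernel.desc (relMap f A) (pmapP f φ ≫ preQπ f B) (pmapP_rel φ)

theorem qmap_π (φ : A ⟶ B) {U : Cᵒᵖ} (z : (preP f A).obj U) :
    (qmap f φ).app U ((preQπ f A).app U z) = (preQπ f B).app U ((pmapP f φ).app U z) :=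
  congrArg (fun q : preP f A ⟶ preQ f B => q.app U z) (cokernel.π_desc _ _ _)

theorem shPre_map_qmap (φ : A ⟶ B) : (ModSite.shPre O_C).map (qmap f φ) = mapSh φ := by
  apply hom_ext_cls
  refine SheafOfModules.hom_ext (PresheafOfModules.hom_ext fun V => ModuleCat.hom_ext (LinearMap.ext fun m => ?_))
  obtain ⟨V⟩ := V
  show ((ModSite.shPre O_C).map (qmap f φ)).val.app (op (f.fn.obj V)) (cls f A (𝟙 _) m) =
    (mapSh φ).val.app (op (f.fn.obj V)) (cls f A (𝟙 _) m)
  rw [mapSh_cls]
  refine (congrArg (fun q : preQ f A ⟶ (ModSite.toPre O_C).obj ((ModSite.shPre O_C).obj (preQ f B)) =>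
    q.app (op (f.fn.obj V)) ((preQπ f A).app (op (f.fn.obj V)) (gen (𝟙 _) m)))
    ((adj O_C).unit.naturality (qmap f φ))).symm.trans ?_
  show ((adj O_C).unit.app (preQ f B)).app _ ((qmap f φ).app _ ((preQπ f A).app _ (gen (𝟙 _) m))) = _
  rw [qmap_π, pmapP_gen]
  rfl

/-- The value of a pure tensor of a symbol with a section. -/
abbrev st {W : C} {V : D} (u : W ⟶ f.fn.obj V) (m : ModSite.sect A V) (t : ModSite.sect F W) :
    ((preQ f A ⊗ (ModSite.toPre O_C).obj F : ModSite.preMod O_C)).obj (op W) :=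
  (preQπ f A).app (op W) (gen u m) ⊗ₜ[O_C.obj.obj (op W)] t

theorem sum_append_st {W : C} {l l' : ℕ} (s : Fin l → (SymT f A).obj (op W)) (s' : Fin l' → (SymT f A).obj (op W))
    (t : Fin l → ModSite.sect F W) (t' : Fin l' → ModSite.sect F W) :
    ∑ i, st (s i).2.1 (s i).2.2 (t i) + ∑ i, st (s' i).2.1 (s' i).2.2 (t' i) =
      ∑ i, st (Fin.append s s' i).2.1 (Fin.append s s' i).2.2 (Fin.append t t' i) := by
  let G : (SymT f A).obj (op W) → ModSite.sect F W →
      ((preQ f A ⊗ (ModSite.toPre O_C).obj F : ModSite.preMod O_C)).obj (op W) := fun x y => st x.2.1 x.2.2 y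
  show ∑ i, G (s i) (t i) + ∑ i, G (s' i) (t' i) = ∑ i, G (Fin.append s s' i) (Fin.append t t' i)
  simp [Fin.sum_univ_add]

theorem exists_repr {W : C} (z : ((preQ f A ⊗ (ModSite.toPre O_C).obj F : ModSite.preMod O_C)).obj (op W)) :
    ∃ (l : ℕ) (s : Fin l → (SymT f A).obj (op W)) (t : Fin l → ModSite.sect F W),
      z = ∑ i, st (s i).2.1 (s i).2.2 (t i) := by
  induction z using TensorProduct.induction_on with
  | zero => exact ⟨0, Fin.elim0, Fin.elim0, by simp⟩
  | tmul q t =>
    obtain ⟨p, rfl⟩ := preQπ_surjective f A (op W) q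
    induction p using Finsupp.induction_linear with
    | zero =>
      exact ⟨0, Fin.elim0, Fin.elim0, by erw [map_zero, TensorProduct.zero_tmul]; simp⟩
    | add a b ha hb =>
      obtain ⟨l, s, t₁, h₁⟩ := ha
      obtain ⟨l', s', t₂, h₂⟩ := hb
      refine ⟨l + l', Fin.append s s', Fin.append t₁ t₂, ?_⟩
      erw [map_add, TensorProduct.add_tmul, h₁, h₂]
      exact sum_append_st s s' t₁ t₂
    | single s r =>
      refine ⟨1, fun _ => s, fun _ => (r : O_C.obj.obj (op W)) • t, ?_⟩
      rw [Fin.sum_univ_one]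
      have e : (Finsupp.single s r : (preP f A).obj (op W)) = (r : (ringPre O_C).obj (op W)) • gen s.2.1 s.2.2 :=
        (Finsupp.smul_single_one _ r).symm
      rw [e]
      refine (congrArg (· ⊗ₜ[O_C.obj.obj (op W)] t) (((preQπ f A).app (op W)).hom.map_smul r (gen s.2.1 s.2.2))).trans ?_
      exact TensorProduct.smul_tmul (R := O_C.obj.obj (op W)) (R' := O_C.obj.obj (op W)) r _ t
  | add a b ha hb =>
    obtain ⟨l, s, t₁, rfl⟩ := ha
    obtain ⟨l', s', t₂, rfl⟩ := hb
    exact ⟨l + l', Fin.append s s', Fin.append t₁ t₂, sum_append_st s s' t₁ t₂⟩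

theorem exists_rel_repr {W : C} {l : ℕ} (s : Fin l → (SymT f B).obj (op W)) (t : Fin l → ModSite.sect F W)
    (h : ∑ i, st (s i).2.1 (s i).2.2 (t i) = 0) :
    ∃ (n : ℕ) (r : Fin n → Rel f B W) (x : Fin n → ModSite.sect F W),
      ∑ i, (gen (s i).2.1 (s i).2.2 : (preP f B).obj (op W)) ⊗ₜ[O_C.obj.obj (op W)] t i =
        ∑ j, (relVal (r j) : (preP f B).obj (op W)) ⊗ₜ[O_C.obj.obj (op W)] x j := by
  let g₁ := ((relMap f B).app (op W)).hom
  let g₂ := ((preQπ f B).app (op W)).hom
  have hex : Function.Exact g₁ g₂ := fun z => ⟨fun hz => exists_rel_of_preQπ_eq_zero f B z hz, by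
    rintro ⟨c, rfl⟩
    exact congrArg (fun q : _ ⟶ preQ f B => q.app (op W) c) (cokernel.condition (relMap f B))⟩
  have hz := (rTensor_exact (R := O_C.obj.obj (op W)) (ModSite.sect F W) hex (preQπ_surjective f B (op W))
    (∑ i, (gen (s i).2.1 (s i).2.2 : (preP f B).obj (op W)) ⊗ₜ[O_C.obj.obj (op W)] t i)).1 (by
      rw [map_sum]
      simp only [LinearMap.rTensor_tmul]
      exact h)
  obtain ⟨w, hw⟩ := hz
  rw [← hw]
  clear hw h
  induction w using TensorProduct.induction_on with
  | zero => exact ⟨0, Fin.elim0, Fin.elim0, by simp⟩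
  | tmul c x =>
    induction c using Finsupp.induction_linear with
    | zero => exact ⟨0, Fin.elim0, Fin.elim0, by erw [TensorProduct.zero_tmul, map_zero]; simp⟩
    | add a b ha hb =>
      obtain ⟨n, r, x₁, h₁⟩ := ha
      obtain ⟨n', r', x₂, h₂⟩ := hb
      refine ⟨n + n', Fin.append r r', Fin.append x₁ x₂, ?_⟩
      erw [TensorProduct.add_tmul, map_add, h₁, h₂]
      simp [Fin.sum_univ_add]
    | single r a =>
      refine ⟨1, fun _ => r, fun _ => (a : O_C.obj.obj (op W)) • x, ?_⟩
      rw [Fin.sum_univ_one, LinearMap.rTensor_tmul]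
      have e : g₁ (Finsupp.single r a) = (a : (ringPre O_C).obj (op W)) • relVal r :=
        (congrArg g₁ (Finsupp.smul_single_one (R := (ringPre O_C).obj (op W)) r a).symm).trans
          ((g₁.map_smul _ _).trans (congrArg _ (ModuleCat.freeDesc_apply _ _)))
      rw [e]
      exact TensorProduct.smul_tmul (R := O_C.obj.obj (op W)) (R' := O_C.obj.obj (op W)) a _ x
  | add a b ha hb =>
    obtain ⟨n, r, x₁, h₁⟩ := ha
    obtain ⟨n', r', x₂, h₂⟩ := hb
    exact ⟨n + n', Fin.append r r', Fin.append x₁ x₂, by simp [Fin.sum_univ_add, h₁, h₂]⟩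

/-- A combination of symbols with coefficients in a module, evaluated at a common node. -/
theorem exists_node_mod {W : C} {l : ℕ} (s : Fin l → (SymT f B).obj (op W)) (t : Fin l → ModSite.sect F W)
    (h : ∑ i, st (s i).2.1 (s i).2.2 (t i) = 0) :
    ∃ T ∈ J W, ∀ ⦃W' : C⦄ (k : W' ⟶ W), T k → ∃ (V₀ : D) (u₀ : W' ⟶ f.fn.obj V₀) (a : ∀ i, V₀ ⟶ (s i).1),
      (∀ i, u₀ ≫ f.fn.map (a i) = k ≫ (s i).2.1) ∧
        letI : Module (O_D.obj.obj (op V₀)) (ModSite.sect F W') :=
          Module.compHom (R := O_C.obj.obj (op W')) (ModSite.sect F W') (rho f u₀)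
        letI : Module (O_D.obj.obj (op V₀)) (ModSite.sect B V₀) :=
          inferInstanceAs (Module ((ModSite.ringSh O_D).obj.obj (op V₀)) (B.val.obj (op V₀)))
        ∑ i, smap F k (t i) ⊗ₜ[O_D.obj.obj (op V₀)] smap B (a i) (s i).2.2 = 0 := by
  classical
  obtain ⟨n, r, x, hx⟩ := exists_rel_repr s t h
  let E : Finset (Rel f B W) := Finset.univ.image r
  let N : Finset (Node f W) := Finset.univ.image (fun i => node (s i)) ∪ E.biUnion relNodes
  obtain ⟨T₀, hT₀, hT₀'⟩ := refined_rels N E
  refine ⟨T₀, hT₀, fun W' k hk => ?_⟩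
  obtain ⟨V₀, u₀, g, hsome, hg, hE⟩ := hT₀' k hk
  choose a ha using fun i => Option.isSome_iff_exists.1
    (hsome (node (s i)) (Finset.mem_union_left _ (Finset.mem_image_of_mem _ (Finset.mem_univ i))))
  refine ⟨V₀, u₀, a, fun i => hg _ _ (ha i), ?_⟩
  letI : Module (O_D.obj.obj (op V₀)) (ModSite.sect F W') :=
    Module.compHom (R := O_C.obj.obj (op W')) (ModSite.sect F W') (rho f u₀)
  letI : Module (O_D.obj.obj (op V₀)) (ModSite.sect B V₀) :=
    inferInstanceAs (Module ((ModSite.ringSh O_D).obj.obj (op V₀)) (B.val.obj (op V₀)))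
  let mv : (SymT f B).obj (op W) → ModSite.sect B V₀ := fun s =>
    if h : (g (node s)).isSome then smap B ((g (node s)).get h) s.2.2 else 0
  let Tn := ModSite.sect F W' ⊗[O_D.obj.obj (op V₀)] ModSite.sect B V₀
  let Φ : ((SymT f B).obj (op W) →₀ O_C.obj.obj (op W)) →+ ModSite.sect F W →+ Tn :=
    Finsupp.liftAddHom fun s => AddMonoidHom.mk'
      (fun c => AddMonoidHom.mk' (fun x => (rmap O_C k c • smap F k x) ⊗ₜ[O_D.obj.obj (op V₀)] mv s)
        fun x x' => by rw [map_add, smul_add, add_tmul])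
      fun c c' => by
        ext x
        simp [map_add, add_smul (R := O_C.obj.obj (op W')), add_tmul]
  have hΦs : ∀ s c x, Φ (Finsupp.single s c) x = (rmap O_C k c • smap F k x) ⊗ₜ[O_D.obj.obj (op V₀)] mv s :=
    fun s c x => by simp [Φ]
  have hΦsmul : ∀ (c : O_C.obj.obj (op W)) p (x : ModSite.sect F W), Φ (c • p) x = Φ p (c • x) := fun c p x => by
    induction p using Finsupp.induction_linear with
    | zero => simp
    | add a b ha hb => rw [smul_add, map_add, map_add, AddMonoidHom.add_apply, AddMonoidHom.add_apply, ha, hb]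
    | single s a =>
      rw [Finsupp.smul_single, hΦs, hΦs, smap_smul, smul_smul, smul_eq_mul, map_mul, mul_comm]
  have hΦgen : ∀ {V : D} (v : W ⟶ f.fn.obj V) (b : V₀ ⟶ V) (m : ModSite.sect B V) (x : ModSite.sect F W),
      g ⟨V, v⟩ = some b → Φ (gen v m) x = smap F k x ⊗ₜ[O_D.obj.obj (op V₀)] smap B b m := fun {V} v b m x hb => by
    show Φ (Finsupp.single _ _) x = _
    rw [hΦs]
    refine (congrArg (fun c => (c • smap F k x) ⊗ₜ[O_D.obj.obj (op V₀)] mv _) (map_one (rmap O_C k))).trans ?_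
    refine congrArg₂ (fun y z => y ⊗ₜ[O_D.obj.obj (op V₀)] z) (one_smul (O_C.obj.obj (op W')) _) ?_
    have hn : g (node (f := f) (M := B) (U := W) ⟨V, v, m⟩) = some b := hb
    simp only [mv, hn, Option.isSome_some, dite_true, Option.get_some]
    rfl
  let Ψ : (preP f B).obj (op W) ⊗[O_C.obj.obj (op W)] ModSite.sect F W →+ Tn :=
    TensorProduct.liftAddHom Φ (fun c p x => hΦsmul c p x)
  have hrel : ∀ j, Φ (relVal (r j)) (x j) = 0 := by
    intro j
    have hj : r j ∈ E := Finset.mem_image_of_mem _ (Finset.mem_univ j)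
    have hN : ∀ y ∈ relNodes (r j), ∃ b, g y = some b := fun y hy => Option.isSome_iff_exists.1
      (hsome y (Finset.mem_union_right _ (Finset.mem_biUnion.2 ⟨r j, hj, hy⟩)))
    have hok := hE _ hj
    generalize r j = r₀ at hN hok
    generalize x j = x₀
    cases r₀ with
    | add V v m m' =>
      obtain ⟨b, hb⟩ := hN ⟨V, v⟩ (by simp [relNodes])
      show Φ (gen v (m + m') - gen v m - gen v m') x₀ = 0
      erw [map_sub, map_sub]
      simp only [AddMonoidHom.sub_apply]
      erw [hΦgen v b _ _ hb, hΦgen v b _ _ hb, hΦgen v b _ _ hb, map_add, tmul_add]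
      abel
    | smul V v c m =>
      obtain ⟨b, hb⟩ := hN ⟨V, v⟩ (by simp [relNodes])
      show Φ (gen v (c • m) - (rho f v c : (ringPre O_C).obj (op W)) • gen v m) x₀ = 0
      erw [map_sub]
      simp only [AddMonoidHom.sub_apply]
      refine sub_eq_zero.2 (Eq.trans ?_ (hΦsmul (rho f v c) _ x₀).symm)
      erw [hΦgen v b _ _ hb, hΦgen v b _ _ hb]
      rw [smap_smul, smap_smul, TensorProduct.tmul_smul, smul_tmul']
      refine congrArg (· ⊗ₜ[O_D.obj.obj (op V₀)] _) ?_
      show rho f u₀ (rmap O_D b c) • smap F k x₀ = _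
      rw [rho_rmap, hg ⟨V, v⟩ b hb, rmap_rho]
    | res V V' e v m =>
      obtain ⟨b, hb⟩ := hN ⟨V', v⟩ (by simp [relNodes])
      obtain ⟨b', hb'⟩ := hN ⟨V, v ≫ f.fn.map e⟩ (by simp [relNodes])
      show Φ (gen v (smap B e m) - gen (v ≫ f.fn.map e) m) x₀ = 0
      erw [map_sub]
      simp only [AddMonoidHom.sub_apply]
      erw [hΦgen v b _ _ hb, hΦgen _ b' _ _ hb', ← smap_comp, hok b b' hb hb', sub_self]
  have h1 := congrArg Ψ hx
  rw [map_sum, map_sum] at h1
  refine Eq.trans (Finset.sum_congr rfl fun i _ => ?_) (h1.trans (Finset.sum_eq_zero fun j _ => ?_))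
  · exact ((TensorProduct.liftAddHom_tmul _ _ _ _).trans (hΦgen (s i).2.1 (a i) (s i).2.2 (t i) (ha i))).symm
  · exact (TensorProduct.liftAddHom_tmul _ _ _ _).trans (hrel j)

/-- Tensoring the inverse image of a monomorphism with a module flat over the base. -/
theorem mono_shPre_qmap (hF : EqFlatMod f F) (φ : A ⟶ B) [Mono φ] :
    Mono ((ModSite.shPre O_C).map (qmap f φ ▷ (ModSite.toPre O_C).obj F)) := by
  classical
  refine mono_shPre_map _ fun W z hz => ?_
  obtain ⟨l, s, t, rfl⟩ := exists_repr z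
  have h0 : ∑ i, st (f := f) (A := B) (s i).2.1 (φ.val.app (op (s i).1) (s i).2.2) (t i) = 0 := by
    refine Eq.trans (Finset.sum_congr rfl fun i _ => ?_) ((map_sum _ _ _).symm.trans hz)
    show _ = (qmap f φ).app (op W) ((preQπ f A).app (op W) (gen (s i).2.1 (s i).2.2)) ⊗ₜ[O_C.obj.obj (op W)] t i
    rw [qmap_π, pmapP_gen]
  obtain ⟨T, hT, hT'⟩ := exists_node_mod (fun i => symMap φ (s i)) t h0
  refine bind_cover T hT fun W₂ k hk => ?_
  obtain ⟨V₀, u₀, a, hu, hsum⟩ := hT' k hk
  letI : Module (O_D.obj.obj (op V₀)) (ModSite.sect F W₂) :=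
    Module.compHom (R := O_C.obj.obj (op W₂)) (ModSite.sect F W₂) (rho f u₀)
  letI : Module (O_D.obj.obj (op V₀)) (ModSite.sect B V₀) :=
    inferInstanceAs (Module ((ModSite.ringSh O_D).obj.obj (op V₀)) (B.val.obj (op V₀)))
  let nv : Fin l → ModSite.sect F W₂ := fun i => smap F k (t i)
  let mF : Fin l → ModSite.sect A V₀ := fun i => smap A (a i) (s i).2.2
  let mG : Fin l → ModSite.sect B V₀ := fun i => φ.val.app (op V₀) (mF i)
  have hvan : ∑ i, nv i ⊗ₜ[O_D.obj.obj (op V₀)] mG i = 0 := by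
    refine Eq.trans (Finset.sum_congr rfl fun i _ => ?_) hsum
    exact congrArg (nv i ⊗ₜ[O_D.obj.obj (op V₀)] ·) (PresheafOfModules.naturality_apply φ.val (a i).op (s i).2.2)
  obtain ⟨p, r, g', Am, y, hn, hrels⟩ := vanish_data (R := O_D.obj.obj (op V₀)) (M := ModSite.sect B V₀)
    (N := ModSite.sect F W₂) mG nv hvan
  have hsplit : ∀ i, smap F k (t i) = ∑ q, rho f u₀ (Am (Sum.inl i) q) • y q := fun i => hn (Sum.inl i)
  have hrel0 : ∀ j, ∑ q, rho f u₀ (Am (Sum.inr j) q) • y q = 0 := fun j => (hn (Sum.inr j)).symm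
  obtain ⟨T₁, hT₁, hT₁'⟩ := hF.many W₂ V₀ u₀ r y p (fun j q => Am (Sum.inr j) q) hrel0
  refine ⟨T₁, hT₁, fun W₃ k₃ hk₃ => ?_⟩
  obtain ⟨V', b, u', n, cc, zz, hu', hy, hcc⟩ := hT₁' k₃ hk₃
  let φV := (φ.val.app (op V')).hom
  have hinj : Function.Injective φV := ModFlat16.sections_injective' φ V'
  let co : Fin l → Fin n → O_D.obj.obj (op V') := fun i q =>
    ∑ j, rmap O_D b (Am (Sum.inl i) j) * cc j q
  have hco : ∀ q, ∑ i, co i q • smap A b (mF i) = 0 := fun q => by
    refine hinj ?_
    rw [map_zero, map_sum]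
    have h2 : ∑ j, cc j q • ∑ i : Fin l ⊕ Fin p, rmap O_D b (Am i j) • smap B b (Sum.elim mG g' i) = 0 :=
      Finset.sum_eq_zero fun j _ => by
        refine Eq.trans (congrArg (cc j q • ·) ?_) (smul_zero _)
        refine Eq.trans ?_ ((congrArg (smap B b) (hrels j)).trans (map_zero _))
        rw [map_sum]
        exact Finset.sum_congr rfl fun i _ => (smap_smul b _ _).symm
    refine Eq.trans ?_ h2
    simp only [Finset.smul_sum, smul_smul]
    rw [Finset.sum_comm, Fintype.sum_sum_type]
    simp only [Sum.elim_inl, Sum.elim_inr]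
    rw [show ∑ j, ∑ s, (cc s q * rmap O_D b (Am (Sum.inr j) s)) • smap B b (g' j) = 0 from
      Finset.sum_eq_zero fun j _ => by
        rw [← Finset.sum_smul, show ∑ s, cc s q * rmap O_D b (Am (Sum.inr j) s) = 0 from hcc j q, zero_smul],
      add_zero]
    refine Finset.sum_congr rfl fun i _ => ?_
    refine (LinearMap.map_smul φV (co i q) _).trans ?_
    rw [show φV (smap A b (mF i)) = smap B b (mG i) from PresheafOfModules.naturality_apply φ.val b.op (mF i),
      ← Finset.sum_smul]
    exact congrArg (· • _) (Finset.sum_congr rfl fun j _ => mul_comm (G := ↑(O_D.obj.obj (op V'))) _ _)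
  let Qm : ModSite.sect A V' →+ (preQ f A).obj (op W₃) := AddMonoidHom.mk'
    (fun m => (preQπ f A).app (op W₃) (gen u' m)) fun m m' => by
      have h := preQπ_relVal f A (Rel.add V' u' m m')
      simp only [relVal, map_sub] at h
      rw [sub_sub, sub_eq_zero] at h
      exact h
  have hQsmul : ∀ (c : O_D.obj.obj (op V')) m, Qm (c • m) = (rho f u' c : (ringPre O_C).obj (op W₃)) • Qm m :=
    fun c m => by
      have h := preQπ_relVal f A (Rel.smul V' u' c m)
      simp only [relVal, map_sub, sub_eq_zero] at h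
      exact h.trans (((preQπ f A).app (op W₃)).hom.map_smul _ _)
  rw [map_sum]
  have hterm : ∀ i, (preQ f A ⊗ (ModSite.toPre O_C).obj F : ModSite.preMod O_C).map (k₃ ≫ k).op
      (st (s i).2.1 (s i).2.2 (t i)) =
        ∑ q, Qm (co i q • smap A b (mF i)) ⊗ₜ[O_C.obj.obj (op W₃)] zz q := fun i => by
    have e1 : (preQ f A).map (k₃ ≫ k).op ((preQπ f A).app (op W) (gen (s i).2.1 (s i).2.2)) =
        Qm (smap A b (mF i)) := by
      refine (PresheafOfModules.naturality_apply (preQπ f A) (k₃ ≫ k).op _).symm.trans ?_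
      refine (congrArg _ (map_gen (k₃ ≫ k) (s i).2.1 (s i).2.2)).trans ?_
      have hres : ∀ {V V' : D} (g : V' ⟶ V) (u : W₃ ⟶ f.fn.obj V') (m : ModSite.sect A V),
          (preQπ f A).app (op W₃) (gen u (smap A g m)) = (preQπ f A).app (op W₃) (gen (u ≫ f.fn.map g) m) :=
        fun {V V'} g u m => by
          have h := preQπ_relVal f A (Rel.res V V' g u m)
          simp only [relVal, map_sub, sub_eq_zero] at h
          exact h
      show _ = (preQπ f A).app (op W₃) (gen u' (smap A b (smap A (a i) (s i).2.2)))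
      rw [hres, hres]
      refine congrArg (fun w => (preQπ f A).app (op W₃) (gen w (s i).2.2)) ?_
      symm
      refine (congrArg (· ≫ f.fn.map (a i)) hu').trans ?_
      exact (Category.assoc _ _ _).trans ((congrArg (k₃ ≫ ·) (hu i)).trans (Category.assoc _ _ _).symm)
    have e2 : smap F (k₃ ≫ k) (t i) = ∑ q, rho f u' (co i q) • zz q := by
      rw [smap_comp, hsplit i, smap_comb]
      simp only [rmap_rho, hy, ← hu', ← rho_rmap, Finset.smul_sum, smul_smul]
      rw [Finset.sum_comm]
      refine Finset.sum_congr rfl fun q _ => ?_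
      rw [map_sum, Finset.sum_smul]
      exact Finset.sum_congr rfl fun j _ => by rw [map_mul]
    refine (congrArg₂ (fun x y => x ⊗ₜ[O_C.obj.obj (op W₃)] y) e1 e2).trans ?_
    rw [TensorProduct.tmul_sum]
    refine Finset.sum_congr rfl fun q _ => ?_
    rw [hQsmul]
    exact (TensorProduct.smul_tmul (R := O_C.obj.obj (op W₃)) (R' := O_C.obj.obj (op W₃))
      (rho f u' (co i q)) _ _).symm
  refine (Finset.sum_congr rfl fun i _ => hterm i).trans ?_
  rw [Finset.sum_comm]
  refine Finset.sum_eq_zero fun q _ => ?_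
  rw [← TensorProduct.sum_tmul, ← map_sum, hco q, map_zero]
  exact TensorProduct.zero_tmul _ _

/-- Pulling back and tensoring with a module flat over the base keeps monomorphisms. -/
theorem mono_pull_tensor (hF : EqFlatMod f F) (φ : A ⟶ B) [Mono φ] :
    Mono (((TS O_C).flip.obj F).map (f.pull.map φ)) := by
  haveI := mono_shPre_qmap hF φ
  have h1 := (shUnitRightIso O_C ((ModSite.toPre O_C).obj F)).hom.naturality (qmap f φ)
  haveI : Mono (((TS O_C).flip.obj F).map ((ModSite.shPre O_C).map (qmap f φ))) := by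
    refine ((MorphismProperty.monomorphisms _).arrow_mk_iso_iff
      (Arrow.isoMk ((shUnitRightIso O_C ((ModSite.toPre O_C).obj F)).app (preQ f A))
        ((shUnitRightIso O_C ((ModSite.toPre O_C).obj F)).app (preQ f B)) h1.symm)).1 ?_
    exact this
  rw [pull_map_eq, Functor.map_comp, Functor.map_comp, ← shPre_map_qmap]
  infer_instance

end Groth.Agent.PullFlatMod16
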